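import Groth.Agent.PunctPure21.Slice
import Groth.Agent.S5184
import Groth.Agent.Lib.FEt21.RegularExtend
import Groth.Agent.Lib.FEt21.Henselian
import Groth.Prelude.Def_LefX

/-!
# Purity of a quotient under the effective Lefschetz condition on the punctured spectrum
-/

set_option autoImplicit false
set_option linter.style.haveILetI false

universe u

open CategoryTheory CategoryTheory.Limits AlgebraicGeometry

namespace GrothLib.PunctPure21

open GrothLib.FEt21 (restrictCompIso)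

/-- Under Leff on an open and purity of its neighbourhoods of the slice, restriction to the slice is an
equivalence. -/
theorem isEquivalence_slice {X W : Scheme.{u}} [IsLocallyNoetherian X] (U : X.Opens) (cl : W ⟶ X)
    [IsClosedImmersion cl] (W₀ : W.Opens) (h : cl ⁻¹ᵁ U = W₀)
    (hL : LefX.LeffCond (U : Scheme.{u}) (cl.ker.comap U.ι))
    (hpure : ∀ V : X.Opens, (cl.ker.support : Set X) ∩ (U : Set X) ⊆ (V : Set X) →
      (FEt.restrict V.ι).IsEquivalence) :
    (FEt.restrict (W₀.ι ≫ cl)).IsEquivalence := by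
  let r : (W₀ : Scheme.{u}) ⟶ (U : Scheme.{u}) := IsOpenImmersion.lift U.ι (W₀.ι ≫ cl) (by
    rintro _ ⟨w, rfl⟩
    rw [Scheme.Opens.range_ι]
    exact h.ge w.2)
  have hr : r ≫ U.ι = W₀.ι ≫ cl := IsOpenImmersion.lift_fac _ _ _
  obtain ⟨hfull, hfaith⟩ := fullyFaithful_slice U cl W₀ h hL.1 ⊤ (Set.subset_univ _)
    (r ≫ (U : Scheme.{u}).topIso.inv) (by rw [Category.assoc]; erw [Scheme.toIso_inv_ι_assoc]; exact hr)
  haveI := hfull
  haveI := hfaith
  haveI : (FEt.restrict ((⊤ : (U : Scheme.{u}).Opens).ι ≫ U.ι)).IsEquivalence :=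
    isEquivalence_comp _ U.ι _ rfl
      (haveI : IsIso (⊤ : (U : Scheme.{u}).Opens).ι := inferInstanceAs (IsIso (U : Scheme.{u}).topIso.hom)
       isEquivalence_of_isIso _)
      (hpure U Set.inter_subset_right)
  let η : FEt.restrict (W₀.ι ≫ cl) ≅ FEt.restrict ((⊤ : (U : Scheme.{u}).Opens).ι ≫ U.ι) ⋙
      FEt.restrict (r ≫ (U : Scheme.{u}).topIso.inv) :=
    (MorphismProperty.Over.pullbackCongr (Q := ⊤) (by
      rw [Category.assoc]; erw [Scheme.toIso_inv_ι_assoc]; exact hr.symm)) ≪≫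
      MorphismProperty.Over.pullbackComp (P := FEt.prop) (Q := ⊤) _ _
  haveI : (FEt.restrict (W₀.ι ≫ cl)).Full := Functor.Full.of_iso η.symm
  haveI : (FEt.restrict (W₀.ι ≫ cl)).Faithful := Functor.Faithful.of_iso η.symm
  haveI : (FEt.restrict (W₀.ι ≫ cl)).EssSurj := by
    refine ⟨fun R => ?_⟩
    have hU' : cl ⁻¹ᵁ U.ι.opensRange = W₀ := by rw [Scheme.Opens.opensRange_ι]; exact h
    obtain ⟨φ, hφi, hφ⟩ := exists_sliceIso U.ι cl W₀ hU'
    haveI := isEquivalence_of_isIso φ
    obtain ⟨V, R', hV, hiso⟩ := Groth.Agent.S5184.result _ _ hL ((FEt.restrict φ).objPreimage R)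
    let i₀ : (cl.ker.comap U.ι).subscheme ⟶ (V : Scheme.{u}) :=
      IsOpenImmersion.lift V.ι (cl.ker.comap U.ι).subschemeι (by
        rw [Scheme.Opens.range_ι, Scheme.IdealSheafData.range_subschemeι]; exact hV)
    have hi₀ : i₀ ≫ V.ι = (cl.ker.comap U.ι).subschemeι := IsOpenImmersion.lift_fac _ _ _
    obtain ⟨e⟩ := hiso i₀ hi₀
    haveI := hpure (U.ι ''ᵁ V) (fun x hx => ⟨⟨x, hx.2⟩, hV (by
      rw [Scheme.IdealSheafData.support_comap]; exact hx.1), rfl⟩)
    let g : (V : Scheme.{u}) ≅ (U.ι ''ᵁ V : X.Opens).toScheme := U.ι.isoImage V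
    haveI := isEquivalence_of_isIso g.hom
    let Z := (FEt.restrict (U.ι ''ᵁ V).ι).objPreimage ((FEt.restrict g.hom).objPreimage R')
    refine ⟨Z, ⟨?_⟩⟩
    refine restrictCompIso (φ ≫ i₀ ≫ g.hom) (U.ι ''ᵁ V).ι _ ?_ Z ≪≫
      (FEt.restrict _).mapIso ((FEt.restrict (U.ι ''ᵁ V).ι).objObjPreimageIso _) ≪≫
      restrictCompIso φ (i₀ ≫ g.hom) _ rfl _ ≪≫
      (FEt.restrict φ).mapIso (restrictCompIso i₀ g.hom _ rfl _ ≪≫
        (FEt.restrict i₀).mapIso ((FEt.restrict g.hom).objObjPreimageIso R') ≪≫ e) ≪≫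
      (FEt.restrict φ).objObjPreimageIso R
    rw [Category.assoc, Category.assoc, Scheme.Hom.isoImage_hom_ι, reassoc_of% hi₀, hφ]
  exact { }

/-- Purity of a quotient of a local ring from Leff on its punctured spectrum. -/
theorem isPurePair_quotient {A : Type u} [CommRing A] [IsLocalRing A] [IsNoetherianRing A] (I : Ideal A)
    [IsAdicComplete I A] [IsLocalRing (A ⧸ I)]
    (hL : LefX.LeffCond (↑(FEt.puncturedSpec A) : Scheme.{u})
      ((Spec.map (CommRingCat.ofHom (Ideal.Quotient.mk I))).ker.comap (FEt.puncturedSpec A).ι))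
    (hpure : ∀ V : (Spec (CommRingCat.of A)).Opens,
      ((Spec.map (CommRingCat.ofHom (Ideal.Quotient.mk I))).ker.support : Set ↥(Spec (CommRingCat.of A))) ∩
        (FEt.puncturedSpec A : Set ↥(Spec (CommRingCat.of A))) ⊆ (V : Set ↥(Spec (CommRingCat.of A))) →
      (FEt.restrict V.ι).IsEquivalence) :
    SGA2.IsPurePair (Spec (CommRingCat.of (A ⧸ I))) (FEt.puncturedSpec (A ⧸ I)) := by
  let cl : Spec (CommRingCat.of (A ⧸ I)) ⟶ Spec (CommRingCat.of A) :=
    Spec.map (CommRingCat.ofHom (Ideal.Quotient.mk I))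
  haveI : IsClosedImmersion cl := IsClosedImmersion.spec_of_surjective _ Ideal.Quotient.mk_surjective
  have hpre : cl ⁻¹ᵁ FEt.puncturedSpec A = FEt.puncturedSpec (A ⧸ I) := by
    have hc : cl (IsLocalRing.closedPoint (A ⧸ I)) = IsLocalRing.closedPoint A := by
      haveI : IsLocalHom (Ideal.Quotient.mk I) :=
        IsLocalHom.of_surjective _ Ideal.Quotient.mk_surjective
      exact IsLocalRing.comap_closedPoint _
    ext p
    show cl p ≠ IsLocalRing.closedPoint A ↔ p ≠ IsLocalRing.closedPoint _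
    rw [← hc]
    exact not_congr cl.isClosedEmbedding.injective.eq_iff
  haveI := isEquivalence_slice (FEt.puncturedSpec A) cl _ hpre hL hpure
  haveI := GrothLib.FEt21.isEquivalence_of_henselian A I
  refine isPurePair_of_isEquivalence ?_
  have : (FEt.restrict cl ⋙ FEt.restrict (FEt.puncturedSpec (A ⧸ I)).ι).IsEquivalence :=
    Functor.isEquivalence_of_iso (F := FEt.restrict ((FEt.puncturedSpec (A ⧸ I)).ι ≫ cl))
      (MorphismProperty.Over.pullbackComp (P := FEt.prop) (Q := ⊤) _ cl)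
  exact Functor.isEquivalence_of_comp_left (FEt.restrict cl) _

end GrothLib.PunctPure21
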