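import Groth.Prelude.Def_SGA2
import Groth.Prelude.Def_FEt
import Groth.Agent.Lib.FEt21.Thick

/-!
# Pure pairs at a closed point
-/

set_option autoImplicit false

universe u

open CategoryTheory CategoryTheory.Limits AlgebraicGeometry

namespace GrothLib.PunctPure21

/-- Restriction along an isomorphism is an equivalence. -/
theorem isEquivalence_of_isIso {X Y : Scheme.{u}} (e : X ⟶ Y) [IsIso e] : (FEt.restrict e).IsEquivalence :=
  GrothLib.FEt21.isEquivalence_of_thickening e

/-- Restriction along a composite of two maps with equivalences. -/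
theorem isEquivalence_comp {X Y Z : Scheme.{u}} (f : X ⟶ Y) (g : Y ⟶ Z) (h : X ⟶ Z) (e : f ≫ g = h)
    (hf : (FEt.restrict f).IsEquivalence) (hg : (FEt.restrict g).IsEquivalence) :
    (FEt.restrict h).IsEquivalence :=
  haveI := hf
  haveI := hg
  Functor.isEquivalence_of_iso (F := FEt.restrict g ⋙ FEt.restrict f)
    ((MorphismProperty.Over.pullbackComp (P := FEt.prop) (Q := ⊤) f g).symm ≪≫
      MorphismProperty.Over.pullbackCongr (P := FEt.prop) (Q := ⊤) e)

/-- A pure pair restricts by an equivalence from the whole space. -/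
theorem isEquivalence_ι {X : Scheme.{u}} {U : X.Opens} (h : SGA2.IsPurePair X U) :
    (FEt.restrict U.ι).IsEquivalence := by
  refine isEquivalence_comp (X.homOfLE (le_inf le_top le_rfl : U ≤ ⊤ ⊓ U) ≫
    X.homOfLE (inf_le_left : ⊤ ⊓ U ≤ ⊤)) (⊤ : X.Opens).ι U.ι (by simp) ?_ ?_
  · have : IsIso (X.homOfLE (le_inf le_top le_rfl : U ≤ ⊤ ⊓ U)) := by
      rw [show X.homOfLE (le_inf le_top le_rfl : U ≤ ⊤ ⊓ U) = (X.isoOfEq (top_inf_eq U).symm).hom from
        (cancel_mono (⊤ ⊓ U).ι).1 (by simp)]
      infer_instance
    exact isEquivalence_comp _ _ _ rfl (isEquivalence_of_isIso _) (h ⊤)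
  · haveI : IsIso (⊤ : X.Opens).ι := inferInstanceAs (IsIso X.topIso.hom)
    exact isEquivalence_of_isIso _

/-- Purity at the closed point of a local ring reduces to the punctured spectrum. -/
theorem isPurePair_of_isEquivalence {A : Type u} [CommRing A] [IsLocalRing A]
    (h : (FEt.restrict (FEt.puncturedSpec A).ι).IsEquivalence) :
    SGA2.IsPurePair (Spec (CommRingCat.of A)) (FEt.puncturedSpec A) := by
  intro V
  by_cases hV : IsLocalRing.closedPoint A ∈ V
  · have hV' : V = ⊤ := top_unique fun x _ =>
      (show IsLocalRing.closedPoint A ∈ V → x ∈ V from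
        fun hx => ((IsLocalRing.specializes_closedPoint x).mem_open V.isOpen hx)) hV
    subst hV'
    have : IsIso ((Spec (CommRingCat.of A)).homOfLE (inf_le_right : ⊤ ⊓ FEt.puncturedSpec A ≤ _)) := by
      rw [show (Spec (CommRingCat.of A)).homOfLE (inf_le_right : ⊤ ⊓ FEt.puncturedSpec A ≤ _) =
        ((Spec (CommRingCat.of A)).isoOfEq (top_inf_eq _)).hom from
        (cancel_mono (FEt.puncturedSpec A).ι).1 (by simp)]
      infer_instance
    exact isEquivalence_comp ((Spec (CommRingCat.of A)).homOfLE (inf_le_right) ≫ (FEt.puncturedSpec A).ι)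
      (Spec (CommRingCat.of A)).topIso.inv _
      ((cancel_mono (⊤ : (Spec (CommRingCat.of A)).Opens).ι).1 (by simp))
      (isEquivalence_comp _ _ _ rfl (isEquivalence_of_isIso _) h) (isEquivalence_of_isIso _)
  · have hle : V ≤ FEt.puncturedSpec A := fun x hx hx' => hV ((Set.mem_singleton_iff.1 hx') ▸ hx)
    have : IsIso ((Spec (CommRingCat.of A)).homOfLE (inf_le_left : V ⊓ FEt.puncturedSpec A ≤ V)) := by
      rw [show (Spec (CommRingCat.of A)).homOfLE (inf_le_left : V ⊓ FEt.puncturedSpec A ≤ V) =
        ((Spec (CommRingCat.of A)).isoOfEq (inf_eq_left.2 hle)).hom from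
        (cancel_mono V.ι).1 (by simp)]
      infer_instance
    exact isEquivalence_of_isIso _

/-- Restriction to a dense open. -/
theorem connectedSpace_puncturedSpec {A : Type u} [CommRing A] [IsLocalRing A]
    (h : IsHomeomorph (FEt.puncturedSpec A).ι.continuous.connectedComponentsMap) :
    ConnectedSpace (FEt.puncturedSpec A : Scheme.{u}) := by
  haveI : PreconnectedSpace (Spec (CommRingCat.of A)) := ⟨by
    have : (Set.univ : Set (Spec (CommRingCat.of A))) = connectedComponent (IsLocalRing.closedPoint A : Spec (CommRingCat.of A)) := by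
      refine (Set.eq_univ_of_forall fun x => ?_).symm
      exact isPreconnected_singleton.closure.subset_connectedComponent (subset_closure (Set.mem_singleton x))
        (specializes_iff_mem_closure.1 (IsLocalRing.specializes_closedPoint x)) |> fun h => connectedComponent_eq h ▸ mem_connectedComponent
    rw [this]; exact isPreconnected_connectedComponent⟩
  have hb := h.bijective
  rw [connectedSpace_iff_connectedComponent]
  obtain ⟨c, -⟩ := hb.2 (ConnectedComponents.mk (IsLocalRing.closedPoint A : Spec (CommRingCat.of A)))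
  obtain ⟨x, rfl⟩ := ConnectedComponents.surjective_coe c
  refine ⟨x, Set.eq_univ_of_forall fun y => ?_⟩
  exact connectedComponent_eq_iff_mem.1 (ConnectedComponents.coe_eq_coe.1 (hb.1 (Subsingleton.elim _ _)))

end GrothLib.PunctPure21
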