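import Groth.Agent.S0250
import Groth.Agent.S0251
import Groth.Agent.Lib.FEt21.DepthTwo
import Groth.Agent.Lib.FEt21.RegularExtend
import Groth.Agent.Lib.RLpsi8.QAffSpec

/-!
# Extension of finite étale covers across pure points of depth two, locally noetherian case
-/

set_option autoImplicit false
set_option backward.isDefEq.respectTransparency false
set_option linter.style.haveILetI false

universe u

open CategoryTheory CategoryTheory.Limits AlgebraicGeometry TopologicalSpace Opposite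

namespace GrothLib.PunctPure21

/-- An isomorphism over an affine cover given by sections. -/
theorem isIso_of_isIso_appLE {V Z X : Scheme.{u}} (c : V ⟶ Z) (p : Z ⟶ X) [IsAffineHom p] (v : V ⟶ X)
    [IsAffineHom v] (e : c ≫ p = v)
    (h : ∀ W : X.affineOpens, IsIso (c.appLE (p ⁻¹ᵁ W.1) (v ⁻¹ᵁ W.1) (by rw [← e]; rfl))) : IsIso c := by
  subst e
  refine (IsZariskiLocalAtTarget.iff_of_iSup_eq_top (P := MorphismProperty.isomorphisms Scheme.{u})
    (fun W : X.affineOpens => p ⁻¹ᵁ W.1) ?_).mpr fun W => ?_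
  · rw [← Scheme.Hom.preimage_iSup, iSup_affineOpens_eq_top, Scheme.Hom.preimage_top]
  · show IsIso (c ∣_ (p ⁻¹ᵁ W.1))
    haveI : IsAffine (p ⁻¹ᵁ W.1).toScheme := W.2.preimage p
    haveI : IsAffine (c ⁻¹ᵁ (p ⁻¹ᵁ W.1)).toScheme := W.2.preimage (c ≫ p)
    have h2 : IsIso (c.app (p ⁻¹ᵁ W.1)) := by
      rw [Scheme.Hom.app_eq_appLE]
      exact h W
    haveI : IsIso (c ∣_ (p ⁻¹ᵁ W.1)).appTop := by
      rw [Scheme.Hom.appTop, morphismRestrict_app]
      have : IsIso (c.app ((p ⁻¹ᵁ W.1).ι ''ᵁ ⊤)) := by rw [Scheme.Opens.ι_image_top]; exact h2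
      infer_instance
    exact ((MorphismProperty.isomorphisms Scheme.{u}).arrow_mk_iso_iff (arrowIsoSpecΓOfIsAffine _)).2
      (inferInstanceAs (IsIso (Spec.map (c ∣_ (p ⁻¹ᵁ W.1)).appTop)))

/-- The functions of a cover over an affine are finite étale when it extends there. -/
theorem finite_etale_appLE {X : Scheme.{u}} [IsLocallyNoetherian X] {U : X.Opens}
    (hd : GrothLib.Depth.DepthTwoOutside U)
    (hp : ∀ x : X, x ∉ U → FEt.PurityHolds (X.presheaf.stalk x))
    (V : FEt.Cat (U : Scheme.{u})) (W : X.Opens) (hW : IsAffineOpen W) :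
    ((V.hom ≫ U.ι).app W).hom.Finite ∧ ((V.hom ≫ U.ι).app W).hom.Etale := by
  haveI : IsFinite V.hom := V.prop.1
  haveI : Etale V.hom := V.prop.2
  haveI : IsAffine (W : Scheme.{u}) := hW
  haveI : IsLocallyNoetherian (W : Scheme.{u}) := inferInstance
  haveI : IsNoetherian (W : Scheme.{u}) := {}
  let UW : (W : Scheme.{u}).Opens := W.ι ⁻¹ᵁ U
  have hdW : GrothLib.Depth.DepthTwoOutside UW := fun z hz => by
    have h := hd (W.ι z) hz
    have hi : IsIso (W.ι.stalkMap z) := inferInstance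
    let σ : X.presheaf.stalk (W.ι z) ≃+* (W : Scheme.{u}).presheaf.stalk z :=
      (asIso (W.ι.stalkMap z)).commRingCatIsoToRingEquiv
    refine h.trans (le_of_eq ?_)
    unfold LocCoh.depth
    refine (GrothLib.FiniteQuot.idealDepth_congr σ σ.toAddEquiv (fun r y => map_mul σ r y)
      (IsLocalRing.maximalIdeal _)).trans ?_
    exact congrArg (fun I => LocCoh.idealDepth I ((W : Scheme.{u}).presheaf.stalk z))
      (IsLocalRing.eq_maximalIdeal (Ideal.map_isMaximal_of_equiv σ))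
  haveI := Groth.Agent.S0250.result UW fun z hz => by
    let σ : (W : Scheme.{u}).presheaf.stalk z ≃+* X.presheaf.stalk (W.ι z) :=
      (asIso (W.ι.stalkMap z)).commRingCatIsoToRingEquiv.symm
    exact Groth.Agent.S0251.purityHolds_of_ringEquiv σ (hp (W.ι z) hz)
  let k : (UW : Scheme.{u}) ⟶ (U : Scheme.{u}) := IsOpenImmersion.lift U.ι (UW.ι ≫ W.ι) (by
    rw [Scheme.Opens.range_ι]; rintro _ ⟨z, rfl⟩; exact z.2)
  have hk : k ≫ U.ι = UW.ι ≫ W.ι := IsOpenImmersion.lift_fac _ _ _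
  haveI : IsOpenImmersion k := by
    haveI : IsOpenImmersion (k ≫ U.ι) := by rw [hk]; infer_instance
    exact IsOpenImmersion.of_comp k U.ι
  let Y := (FEt.restrict UW.ι).objPreimage ((FEt.restrict k).obj V)
  let e : (FEt.restrict UW.ι).obj Y ≅ (FEt.restrict k).obj V := (FEt.restrict UW.ι).objObjPreimageIso _
  let q : Y.left ⟶ (W : Scheme.{u}) := Y.hom
  haveI : IsFinite q := Y.prop.1
  haveI : Etale q := Y.prop.2
  haveI : IsAffine Y.left := isAffine_of_isAffineHom q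
  haveI : IsIso e.hom.left := ((MorphismProperty.Over.forget _ ⊤ _ ⋙ Over.forget _).mapIso e).isIso_hom
  let m : pullback q UW.ι ⟶ Y.left := pullback.fst q UW.ι
  let j : pullback q UW.ι ⟶ V.left := e.hom.left ≫ pullback.fst V.hom k
  have hjv : j ≫ V.hom ≫ U.ι = m ≫ q ≫ W.ι := by
    have hw : e.hom.left ≫ pullback.snd V.hom k = pullback.snd q UW.ι := MorphismProperty.Over.w e.hom
    show (e.hom.left ≫ pullback.fst V.hom k) ≫ V.hom ≫ U.ι = pullback.fst q UW.ι ≫ q ≫ W.ι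
    rw [pullback.condition_assoc, Category.assoc, pullback.condition_assoc, hk, reassoc_of% hw]
  haveI : IsOpenImmersion j := inferInstanceAs (IsOpenImmersion (e.hom.left ≫ pullback.fst V.hom k))
  have hj : j.opensRange = (V.hom ≫ U.ι) ⁻¹ᵁ W := by
    refine Opens.ext ?_
    show Set.range j = _
    rw [show Set.range j = Set.range (pullback.fst V.hom k) from
      Function.Surjective.range_comp (e.hom.left.surjective) _, Scheme.Pullback.range_fst]
    refine Set.ext fun a => ?_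
    show V.hom a ∈ Set.range k ↔ U.ι (V.hom a) ∈ W
    constructor
    · rintro ⟨z, hz⟩
      rw [← hz, ← Scheme.Hom.comp_apply, hk]
      exact (UW.ι z).2
    · intro ha
      refine ⟨⟨⟨U.ι (V.hom a), ha⟩, (V.hom a).2⟩, U.ι.isOpenEmbedding.injective ?_⟩
      rw [← Scheme.Hom.comp_apply, hk]
      rfl
  have hmb : Function.Bijective (m.app ⊤) :=
    GrothLib.FEt21.app_bijective_of_isPullback (IsPullback.of_hasPullback q UW.ι)
      (GrothLib.FEt21.app_ι_bijective_of_depthTwo hdW) (U := ⊤) (isAffineOpen_top _)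
  haveI : IsIso (m.app ⊤) := (ConcreteCategory.isIso_iff_bijective _).2 hmb
  let a := (V.hom ≫ U.ι).app W
  have hle : (⊤ : (pullback q UW.ι).Opens) ≤ j ⁻¹ᵁ ((V.hom ≫ U.ι) ⁻¹ᵁ W) := fun z _ => hj.le ⟨z, rfl⟩
  let bj := j.appLE ((V.hom ≫ U.ι) ⁻¹ᵁ W) ⊤ hle
  haveI : IsIso bj := by
    have h1 : bj = j.app _ ≫ (pullback q UW.ι).presheaf.map
        (homOfLE hle).op := rfl
    haveI : IsIso (j.app ((V.hom ≫ U.ι) ⁻¹ᵁ W)) := Scheme.Hom.isIso_app j _ hj.ge
    haveI : IsIso (homOfLE hle) :=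
      ⟨homOfLE le_top, Subsingleton.elim _ _, Subsingleton.elim _ _⟩
    rw [h1]; infer_instance
  have key : ∀ {f g : pullback q UW.ι ⟶ X} (_ : f = g) (T : X.Opens) (P : (pullback q UW.ι).Opens)
      (h : P ≤ f ⁻¹ᵁ T) (h' : P ≤ g ⁻¹ᵁ T), f.appLE T P h = g.appLE T P h' := by
    intro f g e T P h h'; subst e; rfl
  have hcomm : a ≫ bj = (q ≫ W.ι).appLE W ⊤ (fun y _ => (q y).2) ≫ m.app ⊤ := by
    show (V.hom ≫ U.ι).app W ≫ bj = _
    rw [Scheme.Hom.app_eq_appLE, Scheme.Hom.appLE_comp_appLE, Scheme.Hom.app_eq_appLE m,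
      Scheme.Hom.appLE_comp_appLE]
    exact key hjv _ _ _ _
  have hY : ((q ≫ W.ι).appLE W ⊤ (fun y _ => (q y).2)) = W.topIso.inv ≫ q.appTop :=
    (GrothLib.FEt21.topIso_inv_appTop W q).symm
  have ha : a = (W.topIso.inv ≫ q.appTop) ≫ m.app ⊤ ≫ inv bj := by
    rw [← hY, ← Category.assoc, ← hcomm, Category.assoc, IsIso.hom_inv_id, Category.comp_id]
  have hf1 : q.appTop.hom.Finite := q.finite_app ⊤ (isAffineOpen_top _)
  have hf2 : q.appTop.hom.Etale :=
    (HasRingHomProperty.iff_of_isAffine (P := @Etale)).1 inferInstance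
  haveI : IsIso (m.app ⊤ ≫ inv bj) := inferInstance
  show a.hom.Finite ∧ a.hom.Etale
  rw [ha]
  exact ⟨RingHom.finite_respectsIso.1 _ (asIso (m.app ⊤ ≫ inv bj)).commRingCatIsoToRingEquiv
      (RingHom.finite_respectsIso.2 _ W.topIso.symm.commRingCatIsoToRingEquiv hf1),
    RingHom.Etale.respectsIso.1 _ (asIso (m.app ⊤ ≫ inv bj)).commRingCatIsoToRingEquiv
      (RingHom.Etale.respectsIso.2 _ W.topIso.symm.commRingCatIsoToRingEquiv hf2)⟩

/-- Extension of covers across pure points of depth two. -/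
theorem essSurj_of_purity_depthTwo {X : Scheme.{u}} [IsLocallyNoetherian X] {U : X.Opens}
    (hd : GrothLib.Depth.DepthTwoOutside U)
    (hp : ∀ x : X, x ∉ U → FEt.PurityHolds (X.presheaf.stalk x)) : (FEt.restrict U.ι).EssSurj := by
  refine ⟨fun V => ?_⟩
  haveI : IsFinite V.hom := V.prop.1
  haveI : Etale V.hom := V.prop.2
  let v : V.left ⟶ X := V.hom ≫ U.ι
  let A := RelSpec.QCAlg.directImage v
  obtain ⟨c, hc, hcA⟩ := RLpsi8.exists_toSpecDirectImage v
  haveI := RLpsi8.isIso_gammaMap A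
  have hcle : ∀ W : X.Opens, v ⁻¹ᵁ W ≤ c ⁻¹ᵁ (A.π ⁻¹ᵁ W) := fun W => by
    rw [← Scheme.Hom.comp_preimage, hc]
  have hc' : ∀ W : X.Opens, IsIso (c.appLE (A.π ⁻¹ᵁ W) (v ⁻¹ᵁ W) (hcle W)) := fun W => by
    rw [← GrothLib.AffAlg8.algHom_app A.π v c hc W, ← hcA]
    infer_instance
  have hW : ∀ W : X.Opens, IsAffineOpen W → (A.π.app W).hom.Finite ∧ (A.π.app W).hom.Etale := fun W hW => by
    haveI := hc' W
    have h1 : A.π.app W = v.app W ≫ inv (c.appLE (A.π ⁻¹ᵁ W) (v ⁻¹ᵁ W) (hcle W)) := by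
      rw [IsIso.eq_comp_inv, Scheme.Hom.app_eq_appLE, Scheme.Hom.appLE_comp_appLE, Scheme.Hom.app_eq_appLE]
      exact GrothLib.FEt21.appLE_eq_of_eq hc _ _ _ _
    obtain ⟨h2, h3⟩ := finite_etale_appLE hd hp V W hW
    rw [h1]
    exact ⟨RingHom.finite_respectsIso.1 _ (asIso (inv (c.appLE (A.π ⁻¹ᵁ W) (v ⁻¹ᵁ W) (hcle W)))).commRingCatIsoToRingEquiv h2,
      RingHom.Etale.respectsIso.1 _ (asIso (inv (c.appLE (A.π ⁻¹ᵁ W) (v ⁻¹ᵁ W) (hcle W)))).commRingCatIsoToRingEquiv h3⟩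
  haveI : IsFinite A.π := ⟨fun W hW' => (hW W hW').1⟩
  haveI : Etale A.π := IsZariskiLocalAtTarget.of_iSup_eq_top (P := @Etale) (fun W : X.affineOpens => W.1)
    (iSup_affineOpens_eq_top X) fun W => by
      haveI : IsAffine (A.π ⁻¹ᵁ W.1).toScheme := W.2.preimage A.π
      haveI : IsAffine W.1.toScheme := W.2
      rw [HasRingHomProperty.iff_of_isAffine (P := @Etale), morphismRestrict_appTop]
      refine RingHom.Etale.respectsIso.1 _ (asIso (A.spec.presheaf.map
        (eqToHom (image_morphismRestrict_preimage A.π W.1 ⊤)).op)).commRingCatIsoToRingEquiv ?_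
      have key : ∀ T : X.Opens, T = W.1 → (A.π.app T).hom.Etale := by
        rintro T rfl; exact (hW _ W.2).2
      exact key _ W.1.ι_image_top
  let Y : FEt.Cat X := MorphismProperty.Over.mk ⊤ A.π ⟨inferInstance, inferInstance⟩
  let c' : V.left ⟶ pullback A.π U.ι := pullback.lift c V.hom hc
  have hc'' : c' ≫ pullback.fst A.π U.ι = c := pullback.lift_fst _ _ _
  haveI : IsAffineHom (c' ≫ pullback.snd A.π U.ι) := by
    rw [pullback.lift_snd]; infer_instance
  haveI : IsIso c' := by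
    refine isIso_of_isIso_appLE c' (pullback.snd A.π U.ι) V.hom (pullback.lift_snd _ _ _) fun W => ?_
    let T := U.ι ''ᵁ W.1
    haveI := hc' T
    have hP : pullback.snd A.π U.ι ⁻¹ᵁ W.1 = pullback.fst A.π U.ι ⁻¹ᵁ (A.π ⁻¹ᵁ T) := by
      rw [← Scheme.Hom.comp_preimage, pullback.condition, Scheme.Hom.comp_preimage, U.ι.preimage_image_eq]
    have hQ : V.hom ⁻¹ᵁ W.1 = v ⁻¹ᵁ T := by
      rw [Scheme.Hom.comp_preimage, U.ι.preimage_image_eq]
    let α := (pullback.fst A.π U.ι).appLE (A.π ⁻¹ᵁ T) (pullback.snd A.π U.ι ⁻¹ᵁ W.1) hP.le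
    haveI : IsIso α := by
      have hle : A.π ⁻¹ᵁ T ≤ (pullback.fst A.π U.ι).opensRange := by
        intro y hy
        show y ∈ Set.range (pullback.fst A.π U.ι)
        rw [Scheme.Pullback.range_fst, Set.mem_preimage, Scheme.Opens.range_ι]
        exact U.ι_image_le W.1 hy
      haveI := Scheme.Hom.isIso_app (pullback.fst A.π U.ι) _ hle
      have : α = (pullback.fst A.π U.ι).app (A.π ⁻¹ᵁ T) ≫
          (pullback A.π U.ι).presheaf.map (eqToHom hP).op := rfl
      rw [this]; infer_instance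
    let β := V.left.presheaf.map (eqToHom hQ).op
    have hcomp : α ≫ c'.appLE (pullback.snd A.π U.ι ⁻¹ᵁ W.1) (V.hom ⁻¹ᵁ W.1)
        (by rw [← Scheme.Hom.comp_preimage, pullback.lift_snd]) =
        c.appLE (A.π ⁻¹ᵁ T) (v ⁻¹ᵁ T) (hcle T) ≫ β := by
      rw [Scheme.Hom.appLE_comp_appLE, Scheme.Hom.appLE_map]
      simp_rw [hc'']
    haveI : IsIso (α ≫ c'.appLE (pullback.snd A.π U.ι ⁻¹ᵁ W.1) (V.hom ⁻¹ᵁ W.1)
        (by rw [← Scheme.Hom.comp_preimage, pullback.lift_snd])) := by rw [hcomp]; infer_instance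
    exact IsIso.of_isIso_comp_left α _
  exact ⟨Y, ⟨(MorphismProperty.Over.isoMk (A := V) (B := (FEt.restrict U.ι).obj Y) (asIso c')
    (pullback.lift_snd _ _ _)).symm⟩⟩

end GrothLib.PunctPure21
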