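import Groth.Agent.PunctPure21.Basic
import Groth.Agent.Lib.LefEt7.FullFaith
import Groth.Prelude.Def_Lef

/-!
# The slice of an open by a closed subscheme
-/

set_option autoImplicit false
set_option backward.isDefEq.respectTransparency false

universe u

open CategoryTheory CategoryTheory.Limits AlgebraicGeometry

namespace GrothLib.PunctPure21

/-- An open subscheme of a closed subscheme is the slice of the ambient open. -/
theorem exists_sliceIso {X W V : Scheme.{u}} (i : V ⟶ X) [IsOpenImmersion i] (cl : W ⟶ X)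
    [IsClosedImmersion cl] (W₀ : W.Opens) (h : cl ⁻¹ᵁ i.opensRange = W₀) :
    ∃ φ : (W₀ : Scheme.{u}) ⟶ (cl.ker.comap i).subscheme, IsIso φ ∧
      φ ≫ (cl.ker.comap i).subschemeι ≫ i = W₀.ι ≫ cl := by
  have hr : Set.range (W₀.ι ≫ cl) ⊆ Set.range i := by
    rintro _ ⟨w, rfl⟩
    exact (h.ge w.2 : cl w.1 ∈ i.opensRange)
  let g := IsOpenImmersion.lift i (W₀.ι ≫ cl) hr
  have H : IsPullback g W₀.ι i cl :=
    IsOpenImmersion.isPullback g W₀.ι i cl (IsOpenImmersion.lift_fac _ _ _).symm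
      (by rw [h, Scheme.Opens.opensRange_ι])
  have hcl : cl.toImage ≫ cl.ker.subschemeι = cl := cl.toImage_imageι
  have H' : IsPullback g (W₀.ι ≫ cl.toImage) i cl.ker.subschemeι :=
    H.of_iso (Iso.refl _) (Iso.refl _) (asIso cl.toImage) (Iso.refl _) (by simp) (by simp) (by simp)
      (by simp [hcl])
  refine ⟨H'.isoPullback.hom ≫ (cl.ker.comapIso i).inv, inferInstance, ?_⟩
  rw [Category.assoc, ← Category.assoc (cl.ker.comapIso i).inv, Scheme.IdealSheafData.comapIso_inv_subschemeι,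
    ← Category.assoc, H'.isoPullback_hom_fst]
  exact IsOpenImmersion.lift_fac _ _ _

/-- Full faithfulness of restriction to the slice under the Lefschetz condition. -/
theorem fullyFaithful_slice {X W : Scheme.{u}} (U : X.Opens) (cl : W ⟶ X) [IsClosedImmersion cl]
    (W₀ : W.Opens) (h : cl ⁻¹ᵁ U = W₀) (hL : Lef.LefCond (U : Scheme.{u}) (cl.ker.comap U.ι))
    (O : (U : Scheme.{u}).Opens) (hO : ((cl.ker.comap U.ι).support : Set (U : Scheme.{u})) ⊆ O)
    (r : (W₀ : Scheme.{u}) ⟶ (O : Scheme.{u})) (hr : r ≫ O.ι ≫ U.ι = W₀.ι ≫ cl) :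
    (FEt.restrict r).Full ∧ (FEt.restrict r).Faithful := by
  obtain ⟨hfull, hfaith⟩ := GrothLib.LefEt7.fullyFaithful_restrict ((cl.ker.comap U.ι).comap O.ι) (hL O hO)
  have hpre : cl ⁻¹ᵁ (O.ι ≫ U.ι).opensRange = W₀ := by
    refine le_antisymm (fun w hw => ?_) (fun w hw => ?_)
    · obtain ⟨o, ho⟩ := hw
      refine h.le (show cl w ∈ U from ?_)
      rw [← show U.ι (O.ι o) = cl w from ho]
      exact (O.ι o).2
    · exact ⟨r ⟨w, hw⟩, (congrArg (fun f => (f : (W₀ : Scheme.{u}) ⟶ X) ⟨w, hw⟩) hr :)⟩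
  obtain ⟨φ, hφi, hφ⟩ := exists_sliceIso (O.ι ≫ U.ι) cl W₀ hpre
  revert φ
  rw [Scheme.IdealSheafData.comap_comp]
  intro φ hφi hφ
  have hr' : φ ≫ ((cl.ker.comap U.ι).comap O.ι).subschemeι = r := by
    rw [← cancel_mono (O.ι ≫ U.ι), Category.assoc, hφ, hr]
  haveI := hfull
  haveI := hfaith
  haveI := isEquivalence_of_isIso φ
  let η : FEt.restrict r ≅ FEt.restrict ((cl.ker.comap U.ι).comap O.ι).subschemeι ⋙ FEt.restrict φ :=
    (MorphismProperty.Over.pullbackCongr (Q := ⊤) hr'.symm) ≪≫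
      MorphismProperty.Over.pullbackComp (P := FEt.prop) (Q := ⊤) φ ((cl.ker.comap U.ι).comap O.ι).subschemeι
  exact ⟨Functor.Full.of_iso η.symm, Functor.Faithful.of_iso η.symm⟩

/-- A functor whose composite with a fully faithful one is an equivalence. -/
theorem isEquivalence_of_comp_fullyFaithful {C D E : Type*} [Category C] [Category D] [Category E]
    (F : C ⥤ D) (G : D ⥤ E) [G.Full] [G.Faithful] [(F ⋙ G).IsEquivalence] : F.IsEquivalence := by
  haveI : F.Faithful := Functor.Faithful.of_comp F G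
  haveI : F.Full := Functor.Full.of_comp_faithful F G
  haveI : F.EssSurj := ⟨fun d => ⟨(F ⋙ G).objPreimage (G.obj d),
    ⟨G.preimageIso ((F ⋙ G).objObjPreimageIso (G.obj d))⟩⟩⟩
  exact {}

end GrothLib.PunctPure21
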